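import Groth.Agent.H16Derived.CartanEil.Step
import Groth.Prelude.Def_CE

/-!
# Cartan–Eilenberg resolutions
-/

set_option autoImplicit false
set_option linter.style.haveILetI false

universe v u v' u'

open CategoryTheory CategoryTheory.Limits HomologicalComplex
open scoped ZeroObject

namespace Groth.Agent.H16Derived.CartanEil

section Splice

variable {B : Type u'} [Category.{v'} B] [Preadditive B] [HasZeroObject B]
  (U J : ℕ → B) (f : ∀ k, U k ⟶ J k) (g : ∀ k, J k ⟶ U (k + 1)) (w : ∀ k, f k ≫ g k = 0)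

/-- The objects of the spliced complex. -/
noncomputable def spliceX : ℤ → B
  | Int.ofNat k => J k
  | Int.negSucc _ => 0

/-- The differentials of the spliced complex. -/
noncomputable def spliceD : ∀ i, spliceX J i ⟶ spliceX J (i + 1)
  | Int.ofNat k => g k ≫ f (k + 1)
  | Int.negSucc _ => 0

include w in
lemma spliceD_comp : ∀ i, spliceD U J f g i ≫ spliceD U J f g (i + 1) = 0
  | Int.ofNat k => by
    show (g k ≫ f (k + 1)) ≫ g (k + 1) ≫ f (k + 1 + 1) = 0
    rw [Category.assoc, reassoc_of% (w (k + 1)), zero_comp, comp_zero]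
  | Int.negSucc _ => zero_comp

/-- The spliced complex. -/
noncomputable def splice : CochainComplex B ℤ :=
  CochainComplex.of (spliceX J) (spliceD U J f g) (spliceD_comp U J f g w)

lemma splice_d (i : ℤ) : (splice U J f g w).d i (i + 1) = spliceD U J f g i :=
  CochainComplex.of_d _ _ i

end Splice

variable {A : Type u} [Category.{v} A] [Abelian A]

lemma isInjResolutionVia_map {B : Type u'} [Category.{v'} B] [Abelian B] (F : B ⥤ A) [F.Additive]
    (U J : ℕ → B) (f : ∀ k, U k ⟶ J k) (g : ∀ k, J k ⟶ U (k + 1)) (w : ∀ k, f k ≫ g k = 0)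
    (hmono : ∀ k, Mono (F.map (f k))) (hepi : ∀ k, Epi (F.map (g k)))
    (hex : ∀ k, (ShortComplex.mk (F.map (f k)) (F.map (g k))
      (by rw [← F.map_comp, w, F.map_zero])).Exact)
    (hinj : ∀ k, Injective (F.obj (J k))) :
    CE.IsInjResolutionVia ((F.mapHomologicalComplex (ComplexShape.up ℤ)).obj (splice U J f g w))
      (F.obj (U 0)) (F.map (f 0)) := by
  let R := (F.mapHomologicalComplex (ComplexShape.up ℤ)).obj (splice U J f g w)
  have hd : ∀ k : ℕ, R.d (Int.ofNat k) (Int.ofNat k + 1) = F.map (g k) ≫ F.map (f (k + 1)) := fun k => by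
    show F.map ((splice U J f g w).d (Int.ofNat k) (Int.ofNat k + 1)) = _
    rw [splice_d]
    exact F.map_comp _ _
  have hz : ∀ k : ℕ, IsZero (R.X (Int.negSucc k)) := fun k => F.map_isZero (isZero_zero B)
  have h₀ : F.map (f 0) ≫ R.d 0 1 = 0 := by
    show F.map (f 0) ≫ R.d (Int.ofNat 0) (Int.ofNat 0 + 1) = 0
    refine (congrArg (F.map (f 0) ≫ ·) (hd 0)).trans ((Category.assoc _ _ _).symm.trans ?_)
    rw [← F.map_comp, w, F.map_zero, zero_comp]
  refine ⟨h₀, ?_, ?_, ?_, hmono 0, ?_⟩
  · rw [CochainComplex.isStrictlyGE_iff]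
    intro i hi
    match i, hi with
    | Int.ofNat k, hi => exact absurd hi (by simp)
    | Int.negSucc k, _ => exact hz k
  · intro q
    match q with
    | Int.ofNat k => exact hinj k
    | Int.negSucc k => exact ⟨fun _ _ _ => ⟨0, (hz k).eq_of_tgt _ _⟩⟩
  · intro q hq
    match q, hq with
    | Int.ofNat 0, hq => exact absurd rfl hq
    | Int.negSucc k, _ => exact ShortComplex.exact_of_isZero_X₂ _ (hz k)
    | Int.ofNat (k + 1), _ =>
      rw [exactAt_iff' _ (Int.ofNat k) (Int.ofNat (k + 1)) (Int.ofNat (k + 1) + 1)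
        (by simp) (by simp), ShortComplex.exact_iff_exact_up_to_refinements]
      intro T x hx
      change T ⟶ F.obj (J (k + 1)) at x
      replace hx : x ≫ F.map (g (k + 1)) ≫ F.map (f (k + 1 + 1)) = 0 := by
        rw [← hd]
        exact hx
      haveI := hmono (k + 1 + 1)
      obtain ⟨T₁, π₁, hπ₁, y, hy⟩ := (hex (k + 1)).exact_up_to_refinements x
        (by rwa [← cancel_mono (F.map (f (k + 1 + 1))), zero_comp, Category.assoc])
      haveI := hepi k
      obtain ⟨T₂, π₂, hπ₂, z, hz'⟩ := surjective_up_to_refinements_of_epi (F.map (g k)) y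
      refine ⟨T₂, π₂ ≫ π₁, epi_comp _ _, z, ?_⟩
      show (π₂ ≫ π₁) ≫ x = z ≫ R.d (Int.ofNat k) (Int.ofNat k + 1)
      rw [hd, Category.assoc, hy]
      exact (reassoc_of% hz') _
  · rw [ShortComplex.exact_iff_exact_up_to_refinements]
    intro T x hx
    change T ⟶ F.obj (J 0) at x
    replace hx : x ≫ F.map (g 0) ≫ F.map (f 1) = 0 := by
      rw [← hd]
      exact hx
    haveI := hmono 1
    exact (hex 0).exact_up_to_refinements x
      (by rwa [← cancel_mono (F.map (f 1)), zero_comp, Category.assoc])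

instance additive_cyclesFunctor (p : ℤ) :
    (HomologicalComplex.cyclesFunctor A (ComplexShape.up ℤ) p).Additive where
  map_add {K L} {φ ψ} := by
    show cyclesMap (φ + ψ) p = cyclesMap φ p + cyclesMap ψ p
    rw [← cancel_mono (L.iCycles p)]
    simp

theorem exists_resolution [EnoughInjectives A] (K : CochainComplex A ℤ) (n : ℤ) [K.IsStrictlyGE n] :
    ∃ (I : CochainComplex (CochainComplex A ℤ) ℤ) (ε : K ⟶ I.X 0) (_ : ε ≫ I.d 0 1 = 0),
      (∃ i : ℤ, ∀ p q : ℤ, p < i → IsZero ((I.X q).X p)) ∧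
      (∀ p : ℤ, CE.IsInjResolutionVia (((HomologicalComplex.eval A (ComplexShape.up ℤ) p).mapHomologicalComplex (ComplexShape.up ℤ)).obj I) (K.X p) (ε.f p)) ∧
      (∀ p : ℤ, CE.IsInjResolutionVia (((HomologicalComplex.cyclesFunctor A (ComplexShape.up ℤ) p).mapHomologicalComplex (ComplexShape.up ℤ)).obj I) (K.cycles p) (HomologicalComplex.cyclesMap ε p)) ∧
      (∀ p : ℤ, CE.IsInjResolutionVia (((HomologicalComplex.homologyFunctor A (ComplexShape.up ℤ) p).mapHomologicalComplex (ComplexShape.up ℤ)).obj I) (K.homology p) (HomologicalComplex.homologyMap ε p)) := by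
  let Bd := {C : CochainComplex A ℤ // ∀ p, p < n → IsZero (C.X p)}
  choose J C f g w hS hmono hJ hC hinj using fun K : Bd => exists_step K.1 n K.2
  let U : ℕ → Bd := fun k => Nat.rec
    ⟨K, fun p hp => CochainComplex.isZero_of_isStrictlyGE K n p hp⟩
    (fun _ C' => ⟨C C', hC C'⟩) k
  let S : ∀ k, ShortComplex (CochainComplex A ℤ) := fun k =>
    ShortComplex.mk (f (U k)) (g (U k)) (w (U k))
  let g' : ∀ k, J (U k) ⟶ (U (k + 1)).1 := fun k => g (U k)
  have w' : ∀ k, f (U k) ≫ g' k = 0 := fun k => w (U k)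
  let Uc : ℕ → CochainComplex A ℤ := fun k => (U k).1
  let Jc : ℕ → CochainComplex A ℤ := fun k => J (U k)
  let fc : ∀ k, Uc k ⟶ Jc k := fun k => f (U k)
  let I := splice Uc Jc fc g' w'
  have hSp : ∀ k p, ((S k).map (HomologicalComplex.eval A (ComplexShape.up ℤ) p)).ShortExact :=
    fun k p => (hS (U k)).map_of_exact _
  refine ⟨I, f (U 0), ?_, ⟨n, fun p q hp => ?_⟩, fun p => ?_, fun p => ?_, fun p => ?_⟩
  · show f (U 0) ≫ I.d (Int.ofNat 0) (Int.ofNat 0 + 1) = 0
    rw [splice_d]
    show f (U 0) ≫ g' 0 ≫ f (U 1) = 0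
    rw [← Category.assoc, w', zero_comp]
  · match q with
    | Int.ofNat k => exact hJ (U k) p hp
    | Int.negSucc k =>
      exact (HomologicalComplex.eval A (ComplexShape.up ℤ) p).map_isZero (isZero_zero _)
  · exact isInjResolutionVia_map (HomologicalComplex.eval A (ComplexShape.up ℤ) p) Uc Jc fc g' w'
      (fun k => (hSp k p).mono_f) (fun k => (hSp k p).epi_g) (fun k => (hSp k p).exact)
      (fun k => (hinj (U k) p).1)
  · exact isInjResolutionVia_map (HomologicalComplex.cyclesFunctor A (ComplexShape.up ℤ) p) Uc Jc fc g' w'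
      (fun k => by
        haveI : Mono ((f (U k)).f p) := (hSp k p).mono_f
        exact inferInstanceAs (Mono (cyclesMap (f (U k)) p)))
      (fun k => epi_cyclesMap (hS (U k)) (hmono (U k)) p)
      (fun k => by
        rw [ShortComplex.exact_iff_exact_up_to_refinements]
        intro T x hx
        change T ⟶ (J (U k)).cycles p at x
        have h₁ : (x ≫ (J (U k)).iCycles p) ≫ (g (U k)).f p = 0 := by
          rw [Category.assoc, ← cyclesMap_i, ← Category.assoc]
          exact (congrArg (· ≫ _) hx).trans zero_comp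
        haveI : Mono ((S k).map (HomologicalComplex.eval A (ComplexShape.up ℤ) p)).f := (hSp k p).mono_f
        let y : T ⟶ (U k).1.X p := (hSp k p).exact.lift _ h₁
        have hy : y ≫ (f (U k)).f p = x ≫ (J (U k)).iCycles p := (hSp k p).exact.lift_f _ _
        have hy' : y ≫ (U k).1.d p (p + 1) = 0 := by
          haveI : Mono ((f (U k)).f (p + 1)) := (hSp k (p + 1)).mono_f
          rw [← cancel_mono ((f (U k)).f (p + 1)), zero_comp, Category.assoc, ← (f (U k)).comm,
            ← Category.assoc, hy, Category.assoc, iCycles_d, comp_zero]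
        refine ⟨T, 𝟙 T, inferInstance, (U k).1.liftCycles y (p + 1) (by simp) hy', ?_⟩
        show 𝟙 T ≫ x = _ ≫ cyclesMap (f (U k)) p
        rw [← cancel_mono ((J (U k)).iCycles p)]
        simp [hy])
      (fun k => (hinj (U k) p).2.1)
  · exact isInjResolutionVia_map (HomologicalComplex.homologyFunctor A (ComplexShape.up ℤ) p) Uc Jc fc g' w'
      (fun k => hmono (U k) p)
      (fun k => epi_homologyMap (hS (U k)) (hmono (U k)) p)
      (fun k => (hS (U k)).homology_exact₂ p)
      (fun k => (hinj (U k) p).2.2)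

end Groth.Agent.H16Derived.CartanEil
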