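import Mathlib.Algebra.Homology.HomologicalComplexAbelian
import Mathlib.Algebra.Homology.ShortComplex.HomologicalComplex
import Mathlib.Algebra.Homology.HomologySequence
import Mathlib.Algebra.Homology.Refinements
import Mathlib.Algebra.Homology.Embedding.CochainComplex
import Mathlib.CategoryTheory.Preadditive.Injective.Basic
import Mathlib.CategoryTheory.Retract

/-!
# The basic step of a Cartan–Eilenberg resolution
-/

set_option autoImplicit false
set_option linter.style.haveILetI false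

universe v u

open CategoryTheory CategoryTheory.Limits HomologicalComplex

namespace Groth.Agent.H16Derived.CartanEil

variable {A : Type u} [Category.{v} A] [Abelian A]

/-- A monomorphism into an injective object, which is zero on zero objects. -/
lemma exists_good_embedding [EnoughInjectives A] (X : A) :
    ∃ (J : A) (ι : X ⟶ J), Injective J ∧ Mono ι ∧ (IsZero X → IsZero J) := by
  by_cases h : IsZero X
  · exact ⟨X, 𝟙 X, ⟨fun _ _ _ => ⟨0, h.eq_of_tgt _ _⟩⟩, inferInstance, fun _ => h⟩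
  · exact ⟨_, Injective.ι X, inferInstance, inferInstance, fun h' => absurd h' h⟩

lemma epi_cyclesMap {S : ShortComplex (CochainComplex A ℤ)} (hS : S.ShortExact)
    (h : ∀ p, Mono (homologyMap S.f p)) (p : ℤ) : Epi (cyclesMap S.g p) := by
  have hS' : ∀ n, (S.map (HomologicalComplex.eval A (ComplexShape.up ℤ) n)).ShortExact :=
    fun n => hS.map_of_exact _
  rw [epi_iff_surjective_up_to_refinements]
  intro T z
  haveI : Epi (S.g.f p) := (hS' p).epi_g
  obtain ⟨T₁, π₁, hπ₁, y, hy⟩ := surjective_up_to_refinements_of_epi (S.g.f p) (z ≫ S.X₃.iCycles p)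
  have h₀ : (y ≫ S.X₂.d p (p + 1)) ≫ S.g.f (p + 1) = 0 := by
    rw [Category.assoc, ← S.g.comm p (p + 1), ← Category.assoc, ← hy]
    simp
  haveI : Mono (S.map (HomologicalComplex.eval A (ComplexShape.up ℤ) (p + 1))).f := (hS' (p + 1)).mono_f
  haveI : Mono (S.f.f (p + 1)) := (hS' (p + 1)).mono_f
  let x : T₁ ⟶ S.X₁.X (p + 1) := (hS' (p + 1)).exact.lift _ h₀
  have hx : x ≫ S.f.f (p + 1) = y ≫ S.X₂.d p (p + 1) := (hS' (p + 1)).exact.lift_f _ _
  have hx' : x ≫ S.X₁.d (p + 1) (p + 1 + 1) = 0 := by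
    haveI : Mono (S.f.f (p + 1 + 1)) := (hS' (p + 1 + 1)).mono_f
    rw [← cancel_mono (S.f.f (p + 1 + 1)), zero_comp, Category.assoc, ← S.f.comm, ← Category.assoc,
      hx, Category.assoc, HomologicalComplex.d_comp_d, comp_zero]
  let c := S.X₁.liftCycles x (p + 1 + 1) (by simp) hx'
  have hc : c ≫ S.X₁.homologyπ (p + 1) = 0 := by
    haveI := h (p + 1)
    rw [← cancel_mono (homologyMap S.f (p + 1)), zero_comp, Category.assoc, homologyπ_naturality,
      ← Category.assoc]
    have e : c ≫ cyclesMap S.f (p + 1) = y ≫ S.X₂.toCycles p (p + 1) := by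
      rw [← cancel_mono (S.X₂.iCycles (p + 1))]
      simp [c, hx]
    rw [e, Category.assoc, toCycles_comp_homologyπ, comp_zero]
  obtain ⟨T₂, π₂, hπ₂, w, hw⟩ := (ShortComplex.exact_of_g_is_cokernel
    (ShortComplex.mk (S.X₁.toCycles p (p + 1)) (S.X₁.homologyπ (p + 1)) (toCycles_comp_homologyπ _ _ _))
    (S.X₁.homologyIsCokernel p (p + 1) (by simp))).exact_up_to_refinements c hc
  have hw' : π₂ ≫ x = w ≫ S.X₁.d p (p + 1) := by
    have e := hw =≫ S.X₁.iCycles (p + 1)
    simpa [c] using e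
  refine ⟨T₂, π₂ ≫ π₁, epi_comp _ _, S.X₂.liftCycles (π₂ ≫ y - w ≫ S.f.f p) (p + 1) (by simp) ?_, ?_⟩
  · rw [Preadditive.sub_comp, Category.assoc, Category.assoc, ← hx, S.f.comm,
      reassoc_of% hw', sub_self]
  · have hz : S.f.f p ≫ S.g.f p = 0 := by
      rw [← HomologicalComplex.comp_f, S.zero, HomologicalComplex.zero_f]
    rw [← cancel_mono (S.X₃.iCycles p)]
    simp [hz, ← hy]

lemma epi_homologyMap {S : ShortComplex (CochainComplex A ℤ)} (hS : S.ShortExact)
    (h : ∀ p, Mono (homologyMap S.f p)) (p : ℤ) : Epi (homologyMap S.g p) := by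
  have hδ : hS.δ p (p + 1) rfl = 0 := by
    haveI := h (p + 1)
    rw [← cancel_mono (homologyMap S.f (p + 1)), zero_comp]
    exact hS.δ_comp p (p + 1) rfl
  exact (hS.homology_exact₃ p (p + 1) rfl).epi_f hδ

/-- One step of the resolution: an embedding into a complex with injective terms, cycles and
homology, which is a monomorphism on homology. -/
theorem exists_step [EnoughInjectives A] (K : CochainComplex A ℤ) (n : ℤ)
    (hK : ∀ p, p < n → IsZero (K.X p)) :
    ∃ (I C : CochainComplex A ℤ) (f : K ⟶ I) (g : I ⟶ C) (w : f ≫ g = 0),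
      (ShortComplex.mk f g w).ShortExact ∧ (∀ p, Mono (homologyMap f p)) ∧
      (∀ p, p < n → IsZero (I.X p)) ∧ (∀ p, p < n → IsZero (C.X p)) ∧
      (∀ p, Injective (I.X p) ∧ Injective (I.cycles p) ∧ Injective (I.homology p)) := by
  let B : ℤ → A := fun p => kernel (K.homologyπ p)
  let iB : ∀ p, B p ⟶ K.X p := fun p => kernel.ι (K.homologyπ p) ≫ K.iCycles p
  choose H ιH hH hιH hH₀ using fun p => exists_good_embedding (K.homology p)
  choose E ιE hE hιE hE₀ using fun p => exists_good_embedding (B p)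
  let d : ∀ p, H p ⊞ (E p ⊞ E (p + 1)) ⟶ H (p + 1) ⊞ (E (p + 1) ⊞ E (p + 1 + 1)) :=
    fun p => biprod.snd ≫ biprod.snd ≫ biprod.inl ≫ biprod.inr
  let I : CochainComplex A ℤ := CochainComplex.of _ d (fun p => by simp [d])
  have hd : ∀ p, I.d p (p + 1) = d p := fun p => CochainComplex.of_d (fun p => H p ⊞ (E p ⊞ E (p + 1))) d p
  let u : ∀ p, K.X p ⟶ H p := fun p =>
    Injective.factorThru (K.homologyπ p ≫ ιH p) (K.iCycles p)
  have hu : ∀ p, K.iCycles p ≫ u p = K.homologyπ p ≫ ιH p := fun p => Injective.comp_factorThru _ _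
  haveI : ∀ p, Mono (iB p) := fun p => mono_comp _ _
  let w : ∀ p, K.X p ⟶ E p := fun p => Injective.factorThru (ιE p) (iB p)
  have hw : ∀ p, iB p ≫ w p = ιE p := fun p => Injective.comp_factorThru _ _
  let β : ∀ p, K.X p ⟶ B (p + 1) := fun p =>
    kernel.lift _ (K.toCycles p (p + 1)) (toCycles_comp_homologyπ _ _ _)
  have hβ : ∀ p, β p ≫ iB (p + 1) = K.d p (p + 1) := fun p => by simp [β, iB]
  let fp : ∀ p, K.X p ⟶ H p ⊞ (E p ⊞ E (p + 1)) := fun p =>
    biprod.lift (u p) (biprod.lift (w p) (β p ≫ ιE (p + 1)))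
  let f : K ⟶ I :=
    { f := fp
      comm' := fun i j hij => by
        obtain rfl : i + 1 = j := hij
        rw [hd]
        have h₁ : K.d i (i + 1) ≫ u (i + 1) = 0 := by
          rw [← toCycles_i, Category.assoc, hu, ← Category.assoc, toCycles_comp_homologyπ, zero_comp]
        have h₂ : K.d i (i + 1) ≫ w (i + 1) = β i ≫ ιE (i + 1) := by
          rw [← hβ, Category.assoc, hw]
        have h₃ : K.d i (i + 1) ≫ β (i + 1) = 0 := by
          rw [← cancel_mono (iB (i + 1 + 1)), Category.assoc, hβ, zero_comp,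
            HomologicalComplex.d_comp_d]
        ext <;> simp [fp, d, h₁, h₂, reassoc_of% h₃] }
  haveI : ∀ p, Mono (f.f p) := fun p => Preadditive.mono_of_cancel_zero _ fun {T} x hx => by
    have h₁ : x ≫ u p = 0 := by simpa [f, fp] using hx =≫ biprod.fst
    have h₂ : x ≫ w p = 0 := by simpa [f, fp] using hx =≫ (biprod.snd ≫ biprod.fst)
    have h₃ : x ≫ β p = 0 := by
      haveI := hιE (p + 1)
      rw [← cancel_mono (ιE (p + 1)), zero_comp, Category.assoc]
      simpa [f, fp] using hx =≫ (biprod.snd ≫ biprod.snd)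
    have h₄ : x ≫ K.d p (p + 1) = 0 := by rw [← hβ, reassoc_of% h₃, zero_comp]
    obtain ⟨y, rfl⟩ : ∃ y, y ≫ K.iCycles p = x :=
      ⟨K.liftCycles x (p + 1) (by simp) h₄, liftCycles_i _ _ _ _ _⟩
    have h₅ : y ≫ K.homologyπ p = 0 := by
      haveI := hιH p
      rw [← cancel_mono (ιH p), zero_comp, Category.assoc, ← hu, ← Category.assoc, h₁]
    have h₆ : kernel.lift _ y h₅ = 0 := by
      haveI := hιE p
      rw [← cancel_mono (ιE p), zero_comp, ← hw]
      simp only [iB, Category.assoc, kernel.lift_ι_assoc]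
      rw [← Category.assoc, h₂]
    rw [← kernel.lift_ι _ y h₅, h₆, zero_comp, zero_comp]
  haveI : Mono f := HomologicalComplex.mono_of_mono_f _ inferInstance
  -- the cycles and the homology of `I`
  have hcyc : ∀ p, I.iCycles p ≫ biprod.snd ≫ biprod.snd = 0 := fun p => by
    have e := I.iCycles_d p (p + 1)
    rw [hd] at e
    simpa [d] using e =≫ (biprod.snd ≫ biprod.fst)
  have hidem : ∀ p, (𝟙 (H p ⊞ (E p ⊞ E (p + 1))) -
      biprod.snd ≫ biprod.snd ≫ biprod.inr ≫ biprod.inr) ≫ I.d p (p + 1) = 0 := fun p => by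
    rw [hd]
    simp [d]
  let r : ∀ p, I.X p ⟶ I.cycles p := fun p => I.liftCycles _ (p + 1) (by simp) (hidem p)
  have hr : ∀ p, I.iCycles p ≫ r p = 𝟙 _ := fun p => by
    rw [← cancel_mono (I.iCycles p), Category.assoc, Category.id_comp]
    simp only [r, liftCycles_i]
    erw [Preadditive.comp_sub, reassoc_of% (hcyc p)]
    simp
    exact Category.comp_id _
  have hIX : ∀ p, Injective (I.X p) := fun p => by
    haveI := hH p
    haveI := hE p
    haveI := hE (p + 1)
    exact inferInstanceAs (Injective (H p ⊞ (E p ⊞ E (p + 1))))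
  have hIcyc : ∀ p, Injective (I.cycles p) := fun p =>
    haveI := hIX p
    Retract.injective (Y := I.X p) ⟨I.iCycles p, r p, hr p⟩
  let φ : ∀ p, I.cycles p ⟶ H p := fun p => I.iCycles p ≫ biprod.fst
  have key : ∀ q, ∃ (ψ : I.homology (q + 1) ⟶ H (q + 1)) (σ : H (q + 1) ⟶ I.homology (q + 1)),
      I.homologyπ (q + 1) ≫ ψ = φ (q + 1) ∧ ψ ≫ σ = 𝟙 _ := by
    intro q
    have hφ : I.toCycles q (q + 1) ≫ φ (q + 1) = 0 := by
      simp only [φ, toCycles_i_assoc]
      rw [hd]
      simp [d]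
    let hc := I.homologyIsCokernel q (q + 1) (by simp)
    let ψ := hc.desc (CokernelCofork.ofπ (φ (q + 1)) hφ)
    have hψ : I.homologyπ (q + 1) ≫ ψ = φ (q + 1) :=
      hc.fac (CokernelCofork.ofπ (φ (q + 1)) hφ) WalkingParallelPair.one
    have hinl : biprod.inl ≫ I.d (q + 1) (q + 1 + 1) = 0 := by
      rw [hd]
      simp [d]
    refine ⟨ψ, I.liftCycles (biprod.inl : H (q + 1) ⟶ _) _ (by simp) hinl ≫ I.homologyπ _, hψ, ?_⟩
    rw [← cancel_epi (I.homologyπ (q + 1)), Category.comp_id, reassoc_of% hψ, ← sub_eq_zero]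
    have e : φ (q + 1) ≫ I.liftCycles (biprod.inl : H (q + 1) ⟶ _) _ (by simp) hinl - 𝟙 _ =
        -((I.iCycles (q + 1) ≫ biprod.snd ≫ biprod.fst ≫ biprod.inr ≫ biprod.inr) ≫
          I.toCycles q (q + 1)) := by
      rw [← cancel_mono (I.iCycles (q + 1))]
      simp only [φ, Preadditive.sub_comp, Category.assoc, liftCycles_i, Category.id_comp,
        Preadditive.neg_comp, toCycles_i]
      rw [hd, ← sub_eq_zero, sub_neg_eq_add]
      have e2 : biprod.snd ≫ biprod.fst ≫ biprod.inr ≫ biprod.inr ≫ d q =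
          (biprod.snd ≫ biprod.fst ≫ biprod.inl ≫ biprod.inr :
            H (q + 1) ⊞ (E (q + 1) ⊞ E (q + 1 + 1)) ⟶ _) := by simp [d]
      erw [e2]
      apply biprod.hom_ext
      · simp
      · apply biprod.hom_ext
        · simp
        · simp [reassoc_of% (hcyc (q + 1)), hcyc (q + 1)]
    have e3 := congrArg (fun z => z ≫ I.homologyπ (q + 1)) e
    simp only [Preadditive.sub_comp, Category.id_comp, Preadditive.neg_comp, Category.assoc,
      toCycles_comp_homologyπ, comp_zero, neg_zero] at e3 ⊢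
    exact e3
  have hIhom : ∀ p, Injective (I.homology p) := fun p => by
    obtain ⟨q, rfl⟩ : ∃ q, p = q + 1 := ⟨p - 1, by lia⟩
    obtain ⟨ψ, σ, -, hσ⟩ := key q
    haveI := hH (q + 1)
    exact Retract.injective (Y := H (q + 1)) ⟨ψ, σ, hσ⟩
  have hmono : ∀ p, Mono (homologyMap f p) := fun p => by
    obtain ⟨q, rfl⟩ : ∃ q, p = q + 1 := ⟨p - 1, by lia⟩
    obtain ⟨ψ, σ, hψ, -⟩ := key q
    haveI := hιH (q + 1)
    refine mono_of_mono_fac (show homologyMap f (q + 1) ≫ ψ = ιH (q + 1) from ?_)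
    rw [← cancel_epi (K.homologyπ (q + 1)), homologyπ_naturality_assoc, hψ, ← hu]
    simp [φ, f, fp]
  have hzK : ∀ p, p ≤ n → IsZero (B p) := fun p hp => by
    have hd0 : K.d (p - 1) p = 0 := (hK _ (by lia)).eq_of_src _ _
    have : Mono (K.homologyπ p) := by
      have : K.toCycles (p - 1) p = 0 := by
        rw [← cancel_mono (K.iCycles p), toCycles_i, hd0, zero_comp]
      exact (ShortComplex.exact_of_g_is_cokernel
        (ShortComplex.mk (K.toCycles (p - 1) p) (K.homologyπ p) (toCycles_comp_homologyπ _ _ _))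
        (K.homologyIsCokernel (p - 1) p (by simp))).mono_g this
    exact isZero_kernel_of_mono _
  have hI₀ : ∀ p, p < n → IsZero (I.X p) := fun p hp => by
    show IsZero (H p ⊞ (E p ⊞ E (p + 1)))
    simp only [biprod_isZero_iff]
    refine ⟨hH₀ p ?_, hE₀ p (hzK p (le_of_lt hp)), hE₀ _ (hzK _ (by lia))⟩
    exact ((exactAt_iff_isZero_homology _ _).1 (ShortComplex.exact_of_isZero_X₂ _ (hK p hp)))
  have hS : (ShortComplex.mk f (cokernel.π f) (cokernel.condition f)).ShortExact :=
    { exact := ShortComplex.exact_cokernel f }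
  refine ⟨I, cokernel f, f, cokernel.π f, cokernel.condition f, hS, hmono, hI₀, fun p hp => ?_,
    fun p => ⟨hIX p, hIcyc p, hIhom p⟩⟩
  haveI : Epi ((cokernel.π f).f p) := (hS.map_of_exact (HomologicalComplex.eval A _ p)).epi_g
  exact (hI₀ p hp).of_epi ((cokernel.π f).f p)

end Groth.Agent.H16Derived.CartanEil
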